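import Groth.Agent.Sga4h.H599.HX
import Groth.Agent.Sga4h.H582.E4

/-!
# Parts (i) and (iv) for `a = 0`, unconditional form
-/

set_option autoImplicit false
universe u

open CategoryTheory CategoryTheory.Limits AlgebraicGeometry Opposite

namespace Groth.Agent.Sga4h.H599.ZeroFin

/-- **Parts (i) and (iv) for `a = 0`.** -/
theorem parts (k K : Type u) [Field k] [Fintype k] [Field K] [Algebra k K]
    [IsAlgClosed K] [Algebra.IsAlgebraic k K] (Λ : Type) [Field Λ] [Finite Λ] (hΛ : (ringChar Λ : k) ≠ 0)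
    [Fact FinFr.PullExact.{u}] (ψ : AddChar k Λ) (hψ : ψ ≠ 1) (n : ℕ) (hn : 1 ≤ n)
    (L : EtLam.Sheaf Λ (Spec (CommRingCat.of (MvPolynomial (Fin n) k))))
    (hL : LangSh.IsASSheaf K ψ (∑ i : Fin n, MvPolynomial.X i : MvPolynomial (Fin n) k) L) (a : K) (ha : a = 0)
    {P : Scheme.{u}}
    (j : Spec (CommRingCat.of (MvPolynomial (Fin n) K ⧸
      Ideal.span {(∏ i : Fin n, MvPolynomial.X i) - MvPolynomial.C a})) ⟶ P) [IsOpenImmersion j]
    (b : P ⟶ Spec (CommRingCat.of K)) [IsProper b]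
    (hj : j ≫ b = Spec.map (CommRingCat.ofHom (algebraMap K (MvPolynomial (Fin n) K ⧸
      Ideal.span {(∏ i : Fin n, MvPolynomial.X i) - MvPolynomial.C a})))) :
    (∀ i : ℕ, i ≠ n - 1 → Subsingleton (EtCoh.H P (FinFr.extZeroLam j (EtLam.pullback
        (Spec.map (CommRingCat.ofHom (Ideal.Quotient.mk (Ideal.span {(∏ i : Fin n, MvPolynomial.X i) - MvPolynomial.C a}))) ≫
          Spec.map (CommRingCat.ofHom (MvPolynomial.map (algebraMap k K)))) L)).carrier i)) ∧
    Module.finrank Λ (EtCoh.H P (FinFr.extZeroLam j (EtLam.pullback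
        (Spec.map (CommRingCat.ofHom (Ideal.Quotient.mk (Ideal.span {(∏ i : Fin n, MvPolynomial.X i) - MvPolynomial.C a}))) ≫
          Spec.map (CommRingCat.ofHom (MvPolynomial.map (algebraMap k K)))) L)).carrier (n - 1)) = 1 := by
  obtain ⟨θ, hθ, e⟩ := Groth.Agent.Sga4h.H582.E4.mvPoly (K := K) n (by omega) ψ hψ L hL
  have hK : (ringChar Λ : K) ≠ 0 := by
    rw [← map_natCast (algebraMap k K)]
    exact (map_ne_zero _).2 hΛ
  exact Zero.parts (θ.comp (MonoidHom.fst _ _)) (fun _ => map_one θ) (HX.hX' hK (algebraMap k K) θ hθ) hn L e ha j b hj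

end Groth.Agent.Sga4h.H599.ZeroFin
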