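import Mathlib.AlgebraicGeometry.Pullbacks
import Mathlib.AlgebraicGeometry.Morphisms.ClosedImmersion
import Mathlib.AlgebraicGeometry.Morphisms.Proper
import Mathlib.RingTheory.Localization.Away.Basic
import Mathlib.RingTheory.Polynomial.Basic
import Mathlib.Algebra.MvPolynomial.Equiv
import Mathlib.RingTheory.TensorProduct.MvPolynomial
import Mathlib.RingTheory.FiniteType

/-!
# Affine geometry for the cohomology of hypersurfaces

* `isPullback_poly` : `Spec B[X] = Spec K[X] ×_K Spec B`;
* `range_away`, `range_quot` : complementary open and closed subschemes of an affine scheme.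
-/

set_option autoImplicit false

universe u

open CategoryTheory CategoryTheory.Limits AlgebraicGeometry Polynomial

namespace Groth.Agent.Sga4h.H599.Geo

section Poly

variable {K B : Type u} [CommRing K] [CommRing B] [Algebra K B]

/-- The square `K → K[X]`, `K → B`, `B[X]`. -/
theorem isPushout_poly : IsPushout (CommRingCat.ofHom (C : K →+* K[X])) (CommRingCat.ofHom (algebraMap K B))
    (CommRingCat.ofHom (Polynomial.mapRingHom (algebraMap K B))) (CommRingCat.ofHom (C : B →+* B[X])) := by
  refine ⟨⟨?_⟩, ⟨PushoutCocone.IsColimit.mk _ (fun s => CommRingCat.ofHom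
    (Polynomial.eval₂RingHom s.inr.hom (s.inl.hom X))) ?_ ?_ ?_⟩⟩
  · ext c
    simp
  · intro s
    apply CommRingCat.hom_ext
    have h : (Polynomial.eval₂RingHom s.inr.hom (s.inl.hom X)).comp (Polynomial.mapRingHom (algebraMap K B)) =
        s.inl.hom := by
      apply Polynomial.ringHom_ext
      · intro a
        have hc := congrArg (fun q => q.hom a) s.condition
        simpa using hc.symm
      · simp
    exact h
  · intro s
    ext x
    simp
  · intro s m h1 h2
    apply CommRingCat.hom_ext
    have h : m.hom = (Polynomial.eval₂RingHom s.inr.hom (s.inl.hom X)) := by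
      apply Polynomial.ringHom_ext
      · intro a
        have h3 := congrArg (fun q => q.hom a) h2
        simpa using h3
      · have h3 := congrArg (fun q => q.hom X) h1
        simpa using h3
    exact h

/-- `Spec B[X] = Spec K[X] ×_K Spec B` -/
theorem isPullback_poly : IsPullback (Spec.map (CommRingCat.ofHom (Polynomial.mapRingHom (algebraMap K B))))
    (Spec.map (CommRingCat.ofHom (C : B →+* B[X]))) (Spec.map (CommRingCat.ofHom (C : K →+* K[X])))
    (Spec.map (CommRingCat.ofHom (algebraMap K B))) :=
  isPullback_SpecMap_of_isPushout _ _ _ _ isPushout_poly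

end Poly

section Exc

variable {A A' A'' : Type u} [CommRing A] [CommRing A'] [CommRing A'']

theorem range_away [Algebra A A'] (f : A) [IsLocalization.Away f A'] :
    Set.range (Spec.map (CommRingCat.ofHom (algebraMap A A'))) = (PrimeSpectrum.basicOpen f : Set (PrimeSpectrum A)) :=
  PrimeSpectrum.localization_away_comap_range A' f

theorem range_quot (φ : A →+* A'') (hφ : Function.Surjective φ) (f : A) (hk : RingHom.ker φ = Ideal.span {f}) :
    Set.range (Spec.map (CommRingCat.ofHom φ)) = (PrimeSpectrum.basicOpen f : Set (PrimeSpectrum A))ᶜ := by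
  have h := _root_.range_comap_of_surjective A'' φ hφ
  rw [hk] at h
  refine Eq.trans h ?_
  ext x
  simp [PrimeSpectrum.mem_zeroLocus]

theorem isClosedImmersion_quot (φ : A →+* A'') (hφ : Function.Surjective φ) :
    IsClosedImmersion (Spec.map (CommRingCat.ofHom φ)) :=
  IsClosedImmersion.spec_of_surjective _ hφ

theorem isOpenImmersion_away [Algebra A A'] (f : A) [IsLocalization.Away f A'] :
    IsOpenImmersion (Spec.map (CommRingCat.ofHom (algebraMap A A'))) :=
  IsOpenImmersion.of_isLocalization f

end Exc

/-- An open immersion of an affine scheme into a scheme proper over an affine scheme is quasi-compact. -/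
theorem quasiCompact_affine {A R : Type u} [CommRing A] [CommRing R] {P : Scheme.{u}}
    (j : Spec (CommRingCat.of A) ⟶ P) (p : P ⟶ Spec (CommRingCat.of R)) [IsProper p] : QuasiCompact j := by
  have h1 : QuasiSeparatedSpace P := quasiSeparatedSpace_of_quasiSeparated p
  infer_instance

end Groth.Agent.Sga4h.H599.Geo
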