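import Groth.Agent.Sga4h.H918.Lang

/-!
# The sheaves `F_θ(f, 1)` on affine schemes

`sh ρ θ f`: the sheaf `F_θ(f, 1)` on `Spec R`, `ρ : k →+* R`, `f : R`, `θ : k × k^* → Λ^*`.
`sh_pull`, `sh_pull'` (base change), `sh_add` (additivity), `sh_zero`, `sh_neg`.
-/

set_option autoImplicit false

universe u

open CategoryTheory CategoryTheory.Limits AlgebraicGeometry Opposite

namespace Groth.Agent.Sga4h.H599.Sh

open Groth.Agent.Sga4h.H918.Ask Groth.Agent.Sga4h.H918.Lang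
open Groth.Agent.Sga4h.H918.Tens (tens)

variable {k : Type*} [Field k] [Fintype k] {Λ : Type (u + 1)} [CommRing Λ]

/-- The sheaf `F_θ(f, 1)` on `Spec R`. -/
noncomputable def sh {R : Type u} [CommRing R] (ρ : k →+* R) (θ : GG k →* Λˣ) (f : R) :
    EtModW.Mod Λ (Spec (CommRingCat.of R)) :=
  F ((Scheme.ΓSpecIso (CommRingCat.of R)).inv.hom.comp ρ) θ ((Scheme.ΓSpecIso (CommRingCat.of R)).inv.hom f) 1
    isUnit_one

section

variable {X : Scheme.{u}}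

theorem F_congr {ρ ρ' : k →+* Γ(X, ⊤)} (hρ : ρ = ρ') (θ : GG k →* Λˣ) {f f' u u' : Γ(X, ⊤)} (hf : f = f')
    (h : u = u') (hu : IsUnit u) (hu' : IsUnit u') : F ρ θ f u hu = F ρ' θ f' u' hu' := by
  subst hρ hf h
  rfl

theorem nonempty_F_congr {ρ ρ' : k →+* Γ(X, ⊤)} (hρ : ρ = ρ') (θ : GG k →* Λˣ) {f f' u u' : Γ(X, ⊤)}
    (hf : f = f') (h : u = u') (hu : IsUnit u) (hu' : IsUnit u') :
    Nonempty (F ρ θ f u hu ≅ F ρ' θ f' u' hu') :=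
  ⟨eqToIso (F_congr hρ θ hf h hu hu')⟩

end

variable {R S : Type u} [CommRing R] [CommRing S]

theorem appTop_inv (φ : R →+* S) (f : R) :
    (Spec.map (CommRingCat.ofHom φ)).appTop.hom ((Scheme.ΓSpecIso (CommRingCat.of R)).inv.hom f) =
      (Scheme.ΓSpecIso (CommRingCat.of S)).inv.hom (φ f) := by
  have h := Scheme.ΓSpecIso_inv_naturality (CommRingCat.ofHom φ)
  exact (congrArg (fun q : CommRingCat.of R ⟶ Γ(Spec (CommRingCat.of S), ⊤) => q.hom f) h).symm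

/-- Base change. -/
theorem sh_pull (φ : R →+* S) (ρ : k →+* R) (θ : GG k →* Λˣ) (f : R) :
    Nonempty ((EtModW.pull Λ (Spec.map (CommRingCat.ofHom φ))).obj (sh ρ θ f) ≅ sh (φ.comp ρ) θ (φ f)) := by
  obtain ⟨e⟩ := pullF (ρ := (Scheme.ΓSpecIso (CommRingCat.of R)).inv.hom.comp ρ)
    (f := (Scheme.ΓSpecIso (CommRingCat.of R)).inv.hom f) (u := 1) (Spec.map (CommRingCat.ofHom φ)) θ isUnit_one
  obtain ⟨e'⟩ := nonempty_F_congr (Λ := Λ)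
    (ρ := (Spec.map (CommRingCat.ofHom φ)).appTop.hom.comp ((Scheme.ΓSpecIso (CommRingCat.of R)).inv.hom.comp ρ))
    (ρ' := (Scheme.ΓSpecIso (CommRingCat.of S)).inv.hom.comp (φ.comp ρ))
    (RingHom.ext fun c => appTop_inv φ (ρ c)) θ (appTop_inv φ f)
    (map_one (Spec.map (CommRingCat.ofHom φ)).appTop.hom) (isUnit_one.map _) isUnit_one
  exact ⟨e ≪≫ e'⟩

/-- Base change, with identified data. -/
theorem sh_pull' {φ : R →+* S} {ρ : k →+* R} {ρ' : k →+* S} (hρ : φ.comp ρ = ρ') (θ : GG k →* Λˣ) {f : R} {f' : S}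
    (hf : φ f = f') :
    Nonempty ((EtModW.pull Λ (Spec.map (CommRingCat.ofHom φ))).obj (sh ρ θ f) ≅ sh ρ' θ f') := by
  subst hρ hf
  exact sh_pull φ ρ θ f

/-- Additivity. -/
theorem sh_add (ρ : k →+* R) (θ : GG k →* Λˣ) (f g : R) :
    Nonempty (sh ρ θ (f + g) ≅ tens (sh ρ θ f) (sh ρ θ g)) := by
  obtain ⟨e⟩ := mulF (f := (Scheme.ΓSpecIso (CommRingCat.of R)).inv.hom f)
    (f' := (Scheme.ΓSpecIso (CommRingCat.of R)).inv.hom g) (u := 1) (u' := 1)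
    ((Scheme.ΓSpecIso (CommRingCat.of R)).inv.hom.comp ρ) θ isUnit_one isUnit_one
  obtain ⟨e'⟩ := nonempty_F_congr (Λ := Λ) (ρ := (Scheme.ΓSpecIso (CommRingCat.of R)).inv.hom.comp ρ) rfl θ
    (map_add (Scheme.ΓSpecIso (CommRingCat.of R)).inv.hom f g) (one_mul 1).symm isUnit_one
    (isUnit_one.mul isUnit_one)
  exact ⟨e' ≪≫ e⟩

/-- The sheaf attached to `0`. -/
theorem sh_zero (ρ : k →+* R) (θ : GG k →* Λˣ) (hθ : ∀ d : kˣ, θ (1, d) = 1) :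
    Nonempty (sh ρ θ 0 ≅ EtModW.constMod Λ (Spec (CommRingCat.of R)) Λ) := by
  obtain ⟨e⟩ := trivF_left (X := Spec (CommRingCat.of R)) (ρ := (Scheme.ΓSpecIso (CommRingCat.of R)).inv.hom.comp ρ)
    (Λ := Λ) (u := 1) θ hθ isUnit_one
  obtain ⟨e'⟩ := nonempty_F_congr (Λ := Λ) (ρ := (Scheme.ΓSpecIso (CommRingCat.of R)).inv.hom.comp ρ) rfl θ
    (map_zero (Scheme.ΓSpecIso (CommRingCat.of R)).inv.hom) rfl isUnit_one isUnit_one
  exact ⟨e' ≪≫ e⟩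

/-- The inverse sheaf. -/
theorem sh_neg (ρ : k →+* R) (θ : GG k →* Λˣ) (hθ : ∀ d : kˣ, θ (1, d) = 1) (f : R) :
    Nonempty (tens (sh ρ θ f) (sh ρ θ (-f)) ≅ EtModW.constMod Λ (Spec (CommRingCat.of R)) Λ) := by
  obtain ⟨e⟩ := sh_add (Λ := Λ) ρ θ f (-f)
  obtain ⟨e'⟩ := sh_zero (Λ := Λ) ρ θ hθ
  rw [add_neg_cancel] at e
  exact ⟨e.symm ≪≫ e'⟩

end Groth.Agent.Sga4h.H599.Sh
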