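import Groth.Agent.Sga4h.H299.HcCard
import Groth.Agent.Sga4h.H299.KunF
import Groth.Agent.Sga4h.H599.Sh
import Groth.Agent.Sga4h.H599.Geo

/-!
# Orders of the compactly supported cohomology groups of `F_θ(a, 1)` on affine varieties

`HC ρ θ A a q c`: for every compactification of `Spec A` over `Spec K` the group `H_c^q(Spec A, F_θ(a, 1))` has
`c` elements.

* `HC.congr` : isomorphisms;
* `HC.open_of_closed`, `HC.closed_of_open`, `HC.open_zero` : excision, for `f : A`, the open part `D(f)` and the closed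
  part `V(f)`, if `Spec A` has no cohomology;
* `HC.poly` : `H_c^*(Spec B[X], F_θ(s + X, 1)) = 0` if `H_c^*(A^1, F_θ(X, 1)) = 0`;
* `HC.point`, `HC.point_succ` : the point.
-/

set_option autoImplicit false
universe u

open CategoryTheory CategoryTheory.Limits AlgebraicGeometry Opposite Polynomial

namespace Groth.Agent.Sga4h.H599.Conc

open Groth.Agent.Etrest.ModAb Groth.Agent.Sga4h.ModRestr
open Groth.Agent.Sga4h.H299.HcK Groth.Agent.Sga4h.H299.HcCard Groth.Agent.Sga4h.H299.Proj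
open Groth.Agent.Sga4h.H918.Ask Groth.Agent.Sga4h.H918.Lang
open Groth.Agent.Sga4h.H918.Tens (tens)
open Groth.Agent.Sga4h.H599.Sh Groth.Agent.Sga4h.H599.Geo

theorem card_eq_one_iff {A : Type*} [AddCommGroup A] : Nat.card A = 1 ↔ Subsingleton A := by
  rw [Nat.card_eq_one_iff_unique]
  exact ⟨fun h => h.1, fun h => ⟨h, ⟨0⟩⟩⟩

variable {k : Type*} [Field k] [Fintype k] {Λ : Type (u + 1)} [CommRing Λ] {K : Type u} [Field K]
  (ρ : k →+* K) (θ : GG k →* Λˣ)

section

variable (A : Type u) [CommRing A] [Algebra K A]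

/-- The sheaf `F_θ(a, 1)` on the spectrum of a `K`-algebra. -/
noncomputable abbrev sA (a : A) : EtModW.Mod Λ (Spec (CommRingCat.of A)) := sh ((algebraMap K A).comp ρ) θ a

/-- The structure morphism. -/
noncomputable abbrev str : Spec (CommRingCat.of A) ⟶ Spec (CommRingCat.of K) :=
  Spec.map (CommRingCat.ofHom (algebraMap K A))

/-- The group `H_c^q(Spec A, F_θ(a, 1))` has `c` elements (every compactification). -/
def HC (a : A) (q c : ℕ) : Prop :=
  ∀ (P : Scheme.{u}) (j : Spec (CommRingCat.of A) ⟶ P) (p : P ⟶ Spec (CommRingCat.of K)) (_ : IsOpenImmersion j)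
    (_ : IsProper p), j ≫ p = str A → Nat.card (HcG j (sA ρ θ A a) q) = c

/-- Existence of compactifications. -/
theorem exists_comp [Algebra.FiniteType K A] :
    ∃ (P : Scheme.{u}) (j : Spec (CommRingCat.of A) ⟶ P) (p : P ⟶ Spec (CommRingCat.of K)), IsOpenImmersion j ∧
      QuasiCompact j ∧ IsProper p ∧ j ≫ p = str A := by
  have : LocallyOfFiniteType (str (K := K) A) := by
    rw [HasRingHomProperty.Spec_iff (P := @LocallyOfFiniteType)]
    exact RingHom.finiteType_algebraMap.2 inferInstance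
  exact exists_compactification (str A)

end

variable {A A' : Type u} [CommRing A] [Algebra K A] [CommRing A'] [Algebra K A'] {ρ θ}

section

variable [IsSepClosed K] {m : ℕ} (hm0 : 0 < m) (hm : (m : Λ) = 0)

include hm0 hm

/-- It is enough to consider one compactification. -/
theorem HC.of_one {a : A} {q c : ℕ} {P : Scheme.{u}} (j : Spec (CommRingCat.of A) ⟶ P)
    (p : P ⟶ Spec (CommRingCat.of K)) [IsOpenImmersion j] [IsProper p] (w : j ≫ p = str A)
    (h : Nat.card (HcG j (sA ρ θ A a) q) = c) : HC ρ θ A a q c := by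
  intro P' j' p' _ _ w'
  have := quasiCompact_affine j p
  have := quasiCompact_affine j' p'
  obtain ⟨e⟩ := hc_indep hm0 hm j p j' p' (w.trans w'.symm) (sA ρ θ A a) q
  rw [← h]
  exact (Nat.card_congr e.toEquiv).symm

/-- Isomorphisms. -/
theorem HC.congr {a : A} {a' : A'} {q c : ℕ} (e : A ≃+* A') (he : ∀ x : K, e (algebraMap K A x) = algebraMap K A' x)
    (ha : e a = a') (h : HC ρ θ A a q c) : HC ρ θ A' a' q c := by
  intro P j p _ _ w
  let φ : Spec (CommRingCat.of A') ⟶ Spec (CommRingCat.of A) := Spec.map (CommRingCat.ofHom (e : A →+* A'))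
  let ψ : Spec (CommRingCat.of A) ⟶ Spec (CommRingCat.of A') := Spec.map (CommRingCat.ofHom (e.symm : A' →+* A))
  have hφψ : φ ≫ ψ = 𝟙 _ := by
    rw [← Spec.map_comp, ← CommRingCat.ofHom_comp]
    have h1 : (e : A →+* A').comp (e.symm : A' →+* A) = RingHom.id A' := by
      ext x
      simp
    rw [h1]
    exact Spec.map_id _
  have hψφ : ψ ≫ φ = 𝟙 _ := by
    rw [← Spec.map_comp, ← CommRingCat.ofHom_comp]
    have h1 : (e.symm : A' →+* A).comp (e : A →+* A') = RingHom.id A := by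
      ext x
      simp
    rw [h1]
    exact Spec.map_id _
  have i1 : IsIso φ := ⟨ψ, hφψ, hψφ⟩
  have i2 : IsIso ψ := ⟨φ, hψφ, hφψ⟩
  have hs : φ ≫ str A = str (K := K) A' := by
    rw [← Spec.map_comp, ← CommRingCat.ofHom_comp]
    congr 2
    exact RingHom.ext he
  have w1 : (ψ ≫ j) ≫ p = str A := by
    rw [Category.assoc, w, ← hs, ← Category.assoc, hψφ, Category.id_comp]
  have := quasiCompact_affine j p
  have := quasiCompact_affine (ψ ≫ j) p
  obtain ⟨e1⟩ := hc_iso hm0 hm (ψ ≫ j) p j p φ (by rw [w1, hs, w]) (sA ρ θ A a) q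
  obtain ⟨e2⟩ := sh_pull' (φ := (e : A →+* A')) (ρ := (algebraMap K A).comp ρ) (ρ' := (algebraMap K A').comp ρ)
    (RingHom.ext fun x => he (ρ x)) θ (f := a) (f' := a') ha
  obtain ⟨e3⟩ := hc_congr j e2 q
  rw [← h P (ψ ≫ j) p inferInstance inferInstance w1]
  exact (Nat.card_congr (e1.trans e3).toEquiv).symm

section exc

variable {A'' : Type u} [CommRing A''] [Algebra K A''] [Algebra.FiniteType K A] [Algebra.FiniteType K A'']
  [Algebra.FiniteType K A'] [Algebra A A'] [IsScalarTower K A A'] (f : A) [IsLocalization.Away f A']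
  (φ : A →ₐ[K] A'') (hφ : Function.Surjective φ) (hk : RingHom.ker φ = Ideal.span {f})
  {a : A} {a' : A'} {a'' : A''} (ha' : algebraMap A A' a = a') (ha'' : φ a = a'')

include hφ hk ha' ha''

omit hm0 hm [Algebra.FiniteType K A] [Algebra.FiniteType K A''] [Algebra.FiniteType K A'] in
/-- The data of the excision sequence. -/
theorem exc_data {P P' P'' : Scheme.{u}} (l : Spec (CommRingCat.of A) ⟶ P) (p : P ⟶ Spec (CommRingCat.of K))
    (l' : Spec (CommRingCat.of A') ⟶ P') (p' : P' ⟶ Spec (CommRingCat.of K))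
    (l'' : Spec (CommRingCat.of A'') ⟶ P'') (p'' : P'' ⟶ Spec (CommRingCat.of K))
    [IsOpenImmersion l] [IsProper p] [IsOpenImmersion l'] [IsProper p'] [IsOpenImmersion l''] [IsProper p'']
    (w : l ≫ p = str A) (w' : l' ≫ p' = str A') (w'' : l'' ≫ p'' = str A'') (hm0 : 0 < m) (hm : (m : Λ) = 0)
    (h0 : ∀ q, Subsingleton (HcG l (sA ρ θ A a) q)) :
    Subsingleton (HcG l' (sA ρ θ A' a') 0) ∧
      ∀ q, Nat.card (HcG l'' (sA ρ θ A'' a'') q) = Nat.card (HcG l' (sA ρ θ A' a') (q + 1)) := by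
  let j : Spec (CommRingCat.of A') ⟶ Spec (CommRingCat.of A) := Spec.map (CommRingCat.ofHom (algebraMap A A'))
  let b : Spec (CommRingCat.of A'') ⟶ Spec (CommRingCat.of A) := Spec.map (CommRingCat.ofHom (φ : A →+* A''))
  have ij : IsOpenImmersion j := isOpenImmersion_away f
  have ib : IsClosedImmersion b := isClosedImmersion_quot _ hφ
  have qj : QuasiCompact j := inferInstance
  have ql : QuasiCompact l := quasiCompact_affine l p
  have hr : Set.range j = (Set.range b)ᶜ := by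
    have h1 : Set.range b = (PrimeSpectrum.basicOpen f : Set (PrimeSpectrum A))ᶜ := range_quot _ hφ f hk
    have h2 : Set.range j = (PrimeSpectrum.basicOpen f : Set (PrimeSpectrum A)) := range_away f
    rw [h1, h2]
    exact (compl_compl _).symm
  have wj : l' ≫ p' = j ≫ l ≫ p := by
    rw [w', w, ← Spec.map_comp, ← CommRingCat.ofHom_comp, ← IsScalarTower.algebraMap_eq]
  have wb : l'' ≫ p'' = b ≫ l ≫ p := by
    rw [w'', w, ← Spec.map_comp, ← CommRingCat.ofHom_comp, φ.comp_algebraMap]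
  obtain ⟨e1⟩ := sh_pull' (Λ := Λ) (φ := algebraMap A A') (ρ := (algebraMap K A).comp ρ)
    (ρ' := (algebraMap K A').comp ρ) (by rw [← RingHom.comp_assoc, ← IsScalarTower.algebraMap_eq]) θ
    (f := a) (f' := a') ha'
  obtain ⟨e2⟩ := sh_pull' (Λ := Λ) (φ := (φ : A →+* A'')) (ρ := (algebraMap K A).comp ρ)
    (ρ' := (algebraMap K A'').comp ρ) (by rw [← RingHom.comp_assoc, φ.comp_algebraMap]) θ
    (f := a) (f' := a'') ha''
  refine ⟨?_, fun q => ?_⟩
  · have h1 := subsingleton_zero j b l p l' p' l'' p'' hm0 hm hr wj wb (sA ρ θ A a) (h0 0)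
    obtain ⟨e3⟩ := hc_congr l' e1 0
    exact e3.symm.toEquiv.subsingleton
  · have h1 := card_shift j b l p l' p' l'' p'' hm0 hm hr wj wb (sA ρ θ A a) q (h0 q) (h0 (q + 1))
    obtain ⟨e3⟩ := hc_congr l' e1 (q + 1)
    obtain ⟨e4⟩ := hc_congr l'' e2 q
    rw [Nat.card_congr e3.toEquiv, Nat.card_congr e4.toEquiv] at h1
    exact h1

omit [Algebra.FiniteType K A'] in
/-- From the closed part to the open part. -/
theorem HC.open_of_closed (h0 : ∀ q, HC ρ θ A a q 1) {q c : ℕ} (h : HC ρ θ A'' a'' q c) :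
    HC ρ θ A' a' (q + 1) c := by
  intro P' l' p' _ _ w'
  obtain ⟨P, l, p, _, _, _, w⟩ := exists_comp (K := K) A
  obtain ⟨P'', l'', p'', _, _, _, w''⟩ := exists_comp (K := K) A''
  have h1 := (exc_data f φ hφ hk ha' ha'' l p l' p' l'' p'' w w' w'' hm0 hm
    (fun q => card_eq_one_iff.1 (h0 q P l p inferInstance inferInstance w))).2 q
  rw [← h1]
  exact h P'' l'' p'' inferInstance inferInstance w''

omit [Algebra.FiniteType K A''] in
/-- From the open part to the closed part. -/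
theorem HC.closed_of_open (h0 : ∀ q, HC ρ θ A a q 1) {q c : ℕ} (h : HC ρ θ A' a' (q + 1) c) :
    HC ρ θ A'' a'' q c := by
  intro P'' l'' p'' _ _ w''
  obtain ⟨P, l, p, _, _, _, w⟩ := exists_comp (K := K) A
  obtain ⟨P', l', p', _, _, _, w'⟩ := exists_comp (K := K) A'
  have h1 := (exc_data f φ hφ hk ha' ha'' l p l' p' l'' p'' w w' w'' hm0 hm
    (fun q => card_eq_one_iff.1 (h0 q P l p inferInstance inferInstance w))).2 q
  rw [h1]
  exact h P' l' p' inferInstance inferInstance w'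

omit [Algebra.FiniteType K A'] in
/-- The bottom degree of the open part. -/
theorem HC.open_zero (h0 : ∀ q, HC ρ θ A a q 1) : HC ρ θ A' a' 0 1 := by
  intro P' l' p' _ _ w'
  obtain ⟨P, l, p, _, _, _, w⟩ := exists_comp (K := K) A
  obtain ⟨P'', l'', p'', _, _, _, w''⟩ := exists_comp (K := K) A''
  exact card_eq_one_iff.2 (exc_data f φ hφ hk ha' ha'' l p l' p' l'' p'' w w' w'' hm0 hm
    (fun q => card_eq_one_iff.1 (h0 q P l p inferInstance inferInstance w))).1

end exc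

omit [IsSepClosed K] hm0 hm in
theorem nonempty_poly {B : Type u} [CommRing B] [Algebra K B] (s : B) :
    Nonempty ((T ((EtModW.pull Λ (Spec.map (CommRingCat.ofHom (C : B →+* B[X])))).obj
      (sA ρ θ B s))).obj ((EtModW.pull Λ (Spec.map (CommRingCat.ofHom
        (Polynomial.mapRingHom (algebraMap K B))))).obj (sA ρ θ K[X] X)) ≅ sA ρ θ B[X] (C s + X)) := by
  obtain ⟨e1⟩ := sh_pull' (Λ := Λ) (φ := (C : B →+* B[X])) (ρ := (algebraMap K B).comp ρ)
    (ρ' := (algebraMap K B[X]).comp ρ) rfl θ (f := s) (f' := C s) rfl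
  obtain ⟨e2⟩ := sh_pull' (Λ := Λ) (φ := Polynomial.mapRingHom (algebraMap K B)) (ρ := (algebraMap K K[X]).comp ρ)
    (ρ' := (algebraMap K B[X]).comp ρ) (RingHom.ext fun x => Polynomial.map_C _) θ (f := (X : K[X])) (f' := X)
    (Polynomial.map_X _)
  obtain ⟨e3⟩ := sh_add (Λ := Λ) ((algebraMap K B[X]).comp ρ) θ (C s) X
  exact ⟨(T _).mapIso e2 ≪≫ (tCongr e1).app _ ≪≫ e3.symm⟩

/-- `H_c^*(Spec B[X], F_θ(s + X, 1)) = 0`. -/
theorem HC.poly {B : Type u} [CommRing B] [Algebra K B] [Algebra.FiniteType K B] (s : B)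
    (hθ : ∀ d : kˣ, θ (1, d) = 1) (hX : ∀ q, HC ρ θ K[X] X q 1) (q : ℕ) : HC ρ θ B[X] (C s + X) q 1 := by
  obtain ⟨Q, jX, p, _, qX, _, wX⟩ := exists_comp (K := K) K[X]
  obtain ⟨R, jY, r, _, qY, _, wY⟩ := exists_comp (K := K) B
  intro P l e _ _ w
  rw [card_eq_one_iff]
  obtain ⟨e0⟩ := nonempty_poly (Λ := Λ) (ρ := ρ) (θ := θ) s
  obtain ⟨pN⟩ := sh_neg (Λ := Λ) ((algebraMap K B).comp ρ) θ hθ s
  have hsq : IsPullback (Spec.map (CommRingCat.ofHom (Polynomial.mapRingHom (algebraMap K B))))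
      (Spec.map (CommRingCat.ofHom (C : B →+* B[X]))) (jX ≫ p) (jY ≫ r) := by
    rw [wX, wY]
    exact isPullback_poly
  have w1 : l ≫ e = Spec.map (CommRingCat.ofHom (C : B →+* B[X])) ≫ jY ≫ r := by
    rw [w, wY, ← Spec.map_comp]
    rfl
  have hM : ∀ q, IsZero ((Groth.Agent.Sga4h.H299.Rs.RS Λ jX p q).obj (sA ρ θ K[X] X)) := fun q =>
    (Groth.Agent.Sga4h.H299.Hc.isZero_iff jX p q _).2
      (card_eq_one_iff.1 (hX q Q jX p inferInstance inferInstance wX))
  have c1 : CompactSpace R := compactSpace_of_proper r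
  have c2 : QuasiSeparatedSpace R := quasiSeparatedSpace_of_proper r
  have h1 := Groth.Agent.Sga4h.H299.Kun.isZero_kunneth hm0 hm hsq w1 (sA ρ θ K[X] X)
      (N := sA ρ θ B s) (N' := sA ρ θ B (-s)) pN hM q
  have h2 : IsZero ((Groth.Agent.Sga4h.H299.Rs.RS Λ l e q).obj (sA ρ θ B[X] (C s + X))) :=
    h1.of_iso ((Groth.Agent.Sga4h.H299.Rs.RS Λ l e q).mapIso e0.symm)
  exact (Groth.Agent.Sga4h.H299.Hc.isZero_iff l e q _).1 h2

omit hm0 hm in
theorem gg_point (M : EtModW.Mod Λ (Spec (CommRingCat.of K))) (e : M ≅ EtModW.constMod Λ (Spec (CommRingCat.of K)) Λ) :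
    Nat.card (HcG (𝟙 (Spec (CommRingCat.of K))) M 0) = Nat.card Λ ∧
      ∀ q, Subsingleton (HcG (𝟙 (Spec (CommRingCat.of K))) M (q + 1)) := by
  refine ⟨?_, fun q => ?_⟩
  · rw [← card_GG (𝟙 _) (𝟙 _) M 0]
    have e1 : (Groth.Agent.Sga4h.H299.Rs.RS Λ (𝟙 (Spec (CommRingCat.of K))) (𝟙 _) 0).obj M ≅
        EtModW.constMod Λ (Spec (CommRingCat.of K)) Λ :=
      (EtModW.Rpush Λ (𝟙 _) 0).mapIso ((Groth.Agent.Sga4h.H299.Exc.extId _).app M) ≪≫
        (Groth.Agent.Sga4h.H299.Leray.rpushIdZero _).app M ≪≫ e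
    have e2 : ModuleCat.of Λ Λ ≅ (ModPoint.Γ Λ _).obj (EtModW.constMod Λ (Spec (CommRingCat.of K)) Λ) :=
      (asIso (ModPoint.constAdj Λ (Spec (CommRingCat.of K))).unit).app (ModuleCat.of Λ Λ)
    exact Nat.card_congr ((ModPoint.Γ Λ _).mapIso e1 ≪≫ e2.symm).toLinearEquiv.toEquiv
  · rw [← subsingleton_GG_iff (𝟙 _) (𝟙 _) M (q + 1)]
    have h1 : IsZero ((Groth.Agent.Sga4h.H299.Rs.RS Λ (𝟙 (Spec (CommRingCat.of K))) (𝟙 _) (q + 1)).obj M) :=
      Groth.Agent.Sga4h.H299.Leray.isZero_rpush_id _ (q + 1) (Nat.succ_pos q)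
    exact (Groth.Agent.Sga4h.H299.Hc.isZero_iff_Γ _).1 h1

/-- The point. -/
theorem HC.point (hθ : ∀ d : kˣ, θ (1, d) = 1) : HC ρ θ K 0 0 (Nat.card Λ) := by
  obtain ⟨e⟩ := sh_zero (Λ := Λ) ((algebraMap K K).comp ρ) θ hθ
  refine HC.of_one hm0 hm (𝟙 _) (𝟙 _) ?_ (gg_point _ e).1
  rw [Category.comp_id]
  exact (Spec.map_id _).symm

/-- The point, positive degrees. -/
theorem HC.point_succ (hθ : ∀ d : kˣ, θ (1, d) = 1) (q : ℕ) : HC ρ θ K 0 (q + 1) 1 := by
  obtain ⟨e⟩ := sh_zero (Λ := Λ) ((algebraMap K K).comp ρ) θ hθ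
  refine HC.of_one hm0 hm (𝟙 _) (𝟙 _) ?_ (card_eq_one_iff.2 ((gg_point _ e).2 q))
  rw [Category.comp_id]
  exact (Spec.map_id _).symm

end

end Groth.Agent.Sga4h.H599.Conc
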