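import Groth.Agent.Sga4h.H931.JacPts
import Mathlib.Algebra.BigOperators.Ring.Finset

/-!
# Points of the hypersurface `x_1 ⋯ x_n = 0` and its Frobenius eigenvalue

* `HypAlg k n`: the ring `k[x_1, …, x_n] / (x_1 ⋯ x_n)`;
* `finsum_hyp`: sums over rational points;
* `sum_char`: `∑ ψ(x_1 + ⋯ + x_n) = -(-1)^n` over the rational points, `ψ` nontrivial, `n ≥ 1`;
* `locTrace_pullback`: the local traces of a pulled back sheaf;
* `frobC_hyp`: the geometric Frobenius is the identity, from the trace formula, if the cohomology is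
  one-dimensional and concentrated in degree `n - 1`.
-/

set_option autoImplicit false
universe u
open CategoryTheory CategoryTheory.Limits AlgebraicGeometry Opposite
open MvPolynomial

namespace Groth.Agent.Sga4h.H599.HypPts

open Groth.Agent.Sga4h.H931.LocTr Groth.Agent.Sga4h.H931.GalTr Groth.Agent.Sga4h.H931.JacPts

/-- The coordinate ring of the hypersurface `x_1 ⋯ x_n = 0`. -/
abbrev HypAlg (k : Type u) [CommRing k] (n : ℕ) : Type u :=
  MvPolynomial (Fin n) k ⧸ Ideal.span {∏ i : Fin n, (MvPolynomial.X i : MvPolynomial (Fin n) k)}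

section Pts

variable {k : Type u} [Field k] {n : ℕ}

theorem aeval_prod_eq_zero (v : Fin n → k) (hv : ∏ i, v i = 0) :
    ∀ a : MvPolynomial (Fin n) k, a ∈ Ideal.span {∏ i : Fin n, (MvPolynomial.X i : MvPolynomial (Fin n) k)} →
      aeval (R := k) v a = 0 := by
  intro a ha
  obtain ⟨b, rfl⟩ := Ideal.mem_span_singleton'.1 ha
  rw [map_mul, map_prod]
  simp only [aeval_X]
  rw [hv, mul_zero]

/-- Rational points of the hypersurface. -/
noncomputable def hypEquiv : {v : Fin n → k // ∏ i, v i = 0} ≃ (HypAlg k n →ₐ[k] k) where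
  toFun v := Ideal.Quotient.liftₐ _ (aeval v.1) (aeval_prod_eq_zero v.1 v.2)
  invFun f := ⟨fun i => f (Ideal.Quotient.mk _ (X i)), by
    rw [← map_prod, ← map_prod]
    rw [Ideal.Quotient.eq_zero_iff_mem.2 (Ideal.mem_span_singleton_self _), map_zero]⟩
  left_inv v := by
    apply Subtype.ext
    funext i
    change aeval v.1 (X i) = v.1 i
    rw [aeval_X]
  right_inv f := by
    apply AlgHom.ext
    intro x
    obtain ⟨x, rfl⟩ := Ideal.Quotient.mk_surjective x
    change aeval (fun i => f (Ideal.Quotient.mk _ (X i))) x = _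
    have h : (aeval (fun i => f (Ideal.Quotient.mk _ (X i))) : MvPolynomial (Fin n) k →ₐ[k] k) =
        f.comp (Ideal.Quotient.mkₐ k _) := by
      apply MvPolynomial.algHom_ext
      intro i
      rw [aeval_X]
      rfl
    rw [h]
    rfl

theorem finsum_hyp [Fintype k] [DecidableEq k] {M : Type*} [AddCommMonoid M] (f : (Fin n → k) → M) :
    ∑ᶠ x : HypAlg k n →ₐ[k] k, f (fun i => x (Ideal.Quotient.mk _ (X i))) =
      ∑ v ∈ (Finset.univ : Finset (Fin n → k)).filter (fun v => ∏ i, v i = 0), f v := by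
  classical
  rw [← finsum_comp_equiv (hypEquiv (k := k) (n := n)), finsum_eq_sum_of_fintype]
  have h : ∀ v : {v : Fin n → k // ∏ i, v i = 0},
      (fun i => hypEquiv v (Ideal.Quotient.mk _ (X i))) = v.1 := fun v => by
    funext i
    change aeval v.1 (X i) = v.1 i
    rw [aeval_X]
  simp only [h]
  exact (Finset.sum_subtype (p := fun v : Fin n → k => ∏ i, v i = 0) _ (fun x => by simp) f).symm

/-- The character sum over the hypersurface. -/
theorem sum_char [Fintype k] [DecidableEq k] {Λ : Type*} [Field Λ] (ψ : AddChar k Λ) (hψ : ψ ≠ 1) (hn : 1 ≤ n) :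
    ∑ v ∈ (Finset.univ : Finset (Fin n → k)).filter (fun v => ∏ i, v i = 0), ψ (∑ i, v i) = -(-1) ^ n := by
  have h0 : ∑ x : k, ψ x = 0 := AddChar.sum_eq_zero_of_ne_one hψ
  have hmul : ∀ v : Fin n → k, ψ (∑ i, v i) = ∏ i, ψ (v i) := fun v => by
    have h : ∀ s : Finset (Fin n), ψ (∑ i ∈ s, v i) = ∏ i ∈ s, ψ (v i) := by
      intro s
      induction s using Finset.induction_on with
      | empty => rw [Finset.sum_empty, Finset.prod_empty, AddChar.map_zero_eq_one]
      | insert a s ha ih => rw [Finset.sum_insert ha, Finset.prod_insert ha, AddChar.map_add_eq_mul, ih]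
    exact h Finset.univ
  have h1 : ∑ v : Fin n → k, ψ (∑ i, v i) = 0 := by
    simp only [hmul]
    have h := Finset.prod_univ_sum (fun _ : Fin n => (Finset.univ : Finset k)) (fun _ x => ψ x)
    rw [Fintype.piFinset_univ] at h
    rw [← h]
    simp only [h0]
    rw [Finset.prod_const, Finset.card_univ, Fintype.card_fin]
    exact zero_pow (by omega)
  have h2 : ∑ v ∈ (Finset.univ : Finset (Fin n → k)).filter (fun v => ¬ ∏ i, v i = 0), ψ (∑ i, v i) =
      (-1) ^ n := by
    simp only [hmul]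
    have h := Finset.prod_univ_sum (fun _ : Fin n => (Finset.univ : Finset k).filter (fun x => x ≠ 0))
      (fun _ x => ψ x)
    have h3 : Fintype.piFinset (fun _ : Fin n => (Finset.univ : Finset k).filter (fun x => x ≠ 0)) =
        (Finset.univ : Finset (Fin n → k)).filter (fun v => ¬ ∏ i, v i = 0) := by
      ext v
      simp [Fintype.mem_piFinset, Finset.prod_eq_zero_iff]
    rw [h3] at h
    rw [← h]
    have h4 : ∑ x ∈ (Finset.univ : Finset k).filter (fun x => x ≠ 0), ψ x = -1 := by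
      have h5 := Finset.sum_filter_add_sum_filter_not (Finset.univ : Finset k) (fun x => x = 0) (fun x => ψ x)
      rw [h0, Finset.filter_eq' Finset.univ (0 : k), if_pos (Finset.mem_univ _), Finset.sum_singleton,
        AddChar.map_zero_eq_one] at h5
      exact (neg_eq_of_add_eq_zero_right h5).symm
    simp only [h4]
    rw [Finset.prod_const, Finset.card_univ, Fintype.card_fin]
  have h6 := Finset.sum_filter_add_sum_filter_not (Finset.univ : Finset (Fin n → k)) (fun v => ∏ i, v i = 0)
    (fun v => ψ (∑ i, v i))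
  rw [h1, h2] at h6
  exact eq_neg_of_add_eq_zero_left h6

end Pts

section Trace

variable {k : Type u} [Field k] [Fintype k] {K : Type u} [Field K] [Algebra k K] [Algebra.IsAlgebraic k K]
  [Fact FinFr.PullExact.{u}]

/-- Local traces of a pulled back sheaf. -/
theorem locTrace_pullback {Λ : Type} [CommRing Λ] {X Y : Scheme.{u}} (x : Spec (CommRingCat.of k) ⟶ X) (g : X ⟶ Y)
    (L : EtLam.Sheaf Λ Y) :
    FinFr.locTrace (K := K) x (EtLam.pullback g L) = FinFr.locTrace (K := K) (x ≫ g) L := by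
  have w : Spec.map (CommRingCat.ofHom ((FinFr.arith k K).symm : K →+* K)) ≫ FinFr.specι k K ≫ x =
      FinFr.specι k K ≫ x := by
    rw [← Category.assoc, FinFr.specMap_algEquiv_comp_specι]
  have w' : Spec.map (CommRingCat.ofHom ((FinFr.arith k K).symm : K →+* K)) ≫ (FinFr.specι k K ≫ x) ≫ g =
      (FinFr.specι k K ≫ x) ≫ g := by
    rw [← Category.assoc, w]
  rw [locTrace_eq x (EtLam.pullback g L) _ rfl _ rfl w,
    locTrace_eq (x ≫ g) L ((FinFr.specι k K ≫ x) ≫ g) (Category.assoc _ _ _).symm _ rfl w',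
    trace_viaLin_pull _ (FinFr.specι k K ≫ x) g w w' L 0]

variable {Λ : Type} [Field Λ] {n : ℕ}

/-- The sum of the local traces over the rational points of the hypersurface. -/
theorem sum_locTrace (ψ : AddChar k Λ) (hψ : ψ ≠ 1) (hn : 1 ≤ n)
    (L : EtLam.Sheaf Λ (Spec (CommRingCat.of (MvPolynomial (Fin n) k))))
    (hL : LangSh.HasTraceFun k K L
      (fun E x => ψ (Algebra.trace k E (x (∑ i : Fin n, MvPolynomial.X i : MvPolynomial (Fin n) k))))) :
    ∑ᶠ x : FinFr.RatPt (Spec.map (CommRingCat.ofHom (algebraMap k (HypAlg k n)))),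
      FinFr.locTrace (K := K) x.1 (EtLam.pullback (Spec.map (CommRingCat.ofHom (Ideal.Quotient.mk
        (Ideal.span {∏ i : Fin n, (MvPolynomial.X i : MvPolynomial (Fin n) k)})))) L) = -(-1) ^ n := by
  classical
  rw [← sum_char ψ hψ hn, ← finsum_hyp (fun v => ψ (∑ i, v i)),
    finsum_ratPt (k := k) (R := HypAlg k n) (fun x => FinFr.locTrace (K := K) x _)]
  refine finsum_congr fun x => ?_
  rw [locTrace_pullback]
  let y : MvPolynomial (Fin n) k →ₐ[k] k := x.comp (Ideal.Quotient.mkₐ k _)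
  have h1 : LangSh.pt x ≫ Spec.map (CommRingCat.ofHom (Ideal.Quotient.mk
      (Ideal.span {∏ i : Fin n, (MvPolynomial.X i : MvPolynomial (Fin n) k)}))) = LangSh.pt y := by
    rw [LangSh.pt, LangSh.pt, ← Spec.map_comp]
    rfl
  rw [h1, locTrace_of_hasTraceFun L _ hL y]
  have h2 : toBot K y (∑ i : Fin n, MvPolynomial.X i : MvPolynomial (Fin n) k) =
      algebraMap k (⊥ : IntermediateField k K) (∑ i, x (Ideal.Quotient.mk _ (X i))) := by
    apply Subtype.ext
    rw [coe_toBot]
    change algebraMap k K (x (Ideal.Quotient.mk _ (∑ i : Fin n, MvPolynomial.X i))) = _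
    rw [map_sum, map_sum]
    rfl
  rw [h2, Algebra.trace_algebraMap, IntermediateField.finrank_bot, one_smul]

/-- The geometric Frobenius on the one-dimensional cohomology of the hypersurface. -/
theorem frobC_hyp (ψ : AddChar k Λ) (hψ : ψ ≠ 1) (hn : 1 ≤ n)
    (L : EtLam.Sheaf Λ (Spec (CommRingCat.of (MvPolynomial (Fin n) k))))
    (hL : LangSh.HasTraceFun k K L
      (fun E x => ψ (Algebra.trace k E (x (∑ i : Fin n, MvPolynomial.X i : MvPolynomial (Fin n) k)))))
    {P₀ : Scheme.{u}} (j : Spec (CommRingCat.of (HypAlg k n)) ⟶ P₀) [IsOpenImmersion j]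
    (b : P₀ ⟶ Spec (CommRingCat.of k))
    (hTF : ∑ᶠ x : FinFr.RatPt (Spec.map (CommRingCat.ofHom (algebraMap k (HypAlg k n)))),
      FinFr.locTrace (K := K) x.1 (EtLam.pullback (Spec.map (CommRingCat.ofHom (Ideal.Quotient.mk
        (Ideal.span {∏ i : Fin n, (MvPolynomial.X i : MvPolynomial (Fin n) k)})))) L) =
      ∑ᶠ i : ℕ, (-1 : Λ) ^ i * LinearMap.trace Λ _ (FinFr.frobC (K := K) j b (EtLam.pullback
        (Spec.map (CommRingCat.ofHom (Ideal.Quotient.mk
        (Ideal.span {∏ i : Fin n, (MvPolynomial.X i : MvPolynomial (Fin n) k)})))) L) i))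
    (h0 : ∀ i : ℕ, i ≠ n - 1 → Subsingleton (EtCoh.H (FinFr.ext K b) (EtLam.pullback (FinFr.extπ K b)
      (FinFr.extZeroLam j (EtLam.pullback (Spec.map (CommRingCat.ofHom (Ideal.Quotient.mk
        (Ideal.span {∏ i : Fin n, (MvPolynomial.X i : MvPolynomial (Fin n) k)})))) L))).carrier i))
    (h1 : Module.finrank Λ (EtCoh.H (FinFr.ext K b) (EtLam.pullback (FinFr.extπ K b)
      (FinFr.extZeroLam j (EtLam.pullback (Spec.map (CommRingCat.ofHom (Ideal.Quotient.mk
        (Ideal.span {∏ i : Fin n, (MvPolynomial.X i : MvPolynomial (Fin n) k)})))) L))).carrier (n - 1)) = 1) :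
    FinFr.frobC (K := K) j b (EtLam.pullback (Spec.map (CommRingCat.ofHom (Ideal.Quotient.mk
        (Ideal.span {∏ i : Fin n, (MvPolynomial.X i : MvPolynomial (Fin n) k)})))) L) (n - 1) = LinearMap.id := by
  rw [sum_locTrace ψ hψ hn L hL] at hTF
  rw [eq_smul_of_trace _ (fun i => FinFr.frobC (K := K) j b _ i) (n - 1) h0 h1 _ hTF]
  have h : (-1 : Λ) ^ (n - 1) * -(-1) ^ n = 1 := by
    obtain ⟨m, rfl⟩ : ∃ m, n = m + 1 := ⟨n - 1, by omega⟩
    rw [Nat.add_sub_cancel, pow_succ]
    rw [mul_neg_one, neg_neg, ← mul_pow, neg_one_mul, neg_neg, one_pow]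
  rw [h, one_smul]

end Trace

end Groth.Agent.Sga4h.H599.HypPts
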