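import Groth.Agent.Sga4h.H582.ASSec
import Groth.Agent.Sga4h.H599.HypPts

/-!
# Base change of the hypersurface `x_1 ⋯ x_n = 0`

* `isPushout_quot` : base change of a quotient ring;
* `hypMap`, `isPullback_hyp` : `Spec (HypAlg K n) = Spec (HypAlg k n) ×_k K`.
-/

set_option autoImplicit false
universe u

open CategoryTheory CategoryTheory.Limits AlgebraicGeometry

namespace Groth.Agent.Sga4h.H599.HypBC

open Groth.Agent.Sga4h.H599.HypPts

/-- Base change of a quotient ring. -/
theorem isPushout_quot {A B : Type u} [CommRing A] [CommRing B] (φ : A →+* B) (I : Ideal A) (J : Ideal B)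
    (hIJ : I ≤ J.comap φ) (hJ : J ≤ I.map φ) :
    IsPushout (CommRingCat.ofHom φ) (CommRingCat.ofHom (Ideal.Quotient.mk I))
      (CommRingCat.ofHom (Ideal.Quotient.mk J)) (CommRingCat.ofHom (Ideal.quotientMap J φ hIJ)) := by
  refine ⟨⟨?_⟩, ⟨PushoutCocone.IsColimit.mk _ (fun s => CommRingCat.ofHom
    (Ideal.Quotient.lift J s.inl.hom ?_)) ?_ ?_ ?_⟩⟩
  · apply CommRingCat.hom_ext
    ext a
    rfl
  · have h1 : J ≤ RingHom.ker s.inl.hom := by
      refine hJ.trans (Ideal.map_le_iff_le_comap.2 fun a ha => ?_)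
      rw [Ideal.mem_comap, RingHom.mem_ker]
      have hc := congrArg (fun q => q.hom a) s.condition
      have hc' : s.inl.hom (φ a) = s.inr.hom (Ideal.Quotient.mk I a) := hc
      rw [hc', Ideal.Quotient.eq_zero_iff_mem.2 ha, map_zero]
    exact fun a ha => h1 ha
  · intro s
    apply CommRingCat.hom_ext
    exact RingHom.ext fun x => rfl
  · intro s
    apply CommRingCat.hom_ext
    refine Ideal.Quotient.ringHom_ext (RingHom.ext fun x => ?_)
    have hc := congrArg (fun q => q.hom x) s.condition
    exact hc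
  · intro s m h1 h2
    apply CommRingCat.hom_ext
    refine Ideal.Quotient.ringHom_ext (RingHom.ext fun x => ?_)
    have hc := congrArg (fun q => q.hom x) h1
    exact hc

section

variable (k K : Type u) [Field k] [Field K] [Algebra k K] (n : ℕ)

theorem hyp_le : Ideal.span {∏ i : Fin n, (MvPolynomial.X i : MvPolynomial (Fin n) k)} ≤
    (Ideal.span {∏ i : Fin n, (MvPolynomial.X i : MvPolynomial (Fin n) K)}).comap
      (MvPolynomial.map (algebraMap k K)) := by
  rw [Ideal.span_le, Set.singleton_subset_iff]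
  change MvPolynomial.map (algebraMap k K) (∏ i : Fin n, (MvPolynomial.X i : MvPolynomial (Fin n) k)) ∈
    Ideal.span {∏ i : Fin n, (MvPolynomial.X i : MvPolynomial (Fin n) K)}
  rw [map_prod]
  simp only [MvPolynomial.map_X]
  exact Ideal.mem_span_singleton_self _

theorem le_hyp : Ideal.span {∏ i : Fin n, (MvPolynomial.X i : MvPolynomial (Fin n) K)} ≤
    (Ideal.span {∏ i : Fin n, (MvPolynomial.X i : MvPolynomial (Fin n) k)}).map
      (MvPolynomial.map (algebraMap k K)) := by
  rw [Ideal.span_le, Set.singleton_subset_iff]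
  have h : MvPolynomial.map (algebraMap k K) (∏ i : Fin n, (MvPolynomial.X i : MvPolynomial (Fin n) k)) =
      ∏ i : Fin n, (MvPolynomial.X i : MvPolynomial (Fin n) K) := by
    rw [map_prod]
    simp only [MvPolynomial.map_X]
  rw [← h]
  exact Ideal.mem_map_of_mem _ (Ideal.mem_span_singleton_self _)

/-- The ring homomorphism `k[x] / (x_1 ⋯ x_n) → K[x] / (x_1 ⋯ x_n)`. -/
noncomputable def hypMap : HypAlg k n →+* HypAlg K n :=
  Ideal.quotientMap _ (MvPolynomial.map (algebraMap k K)) (hyp_le k K n)

theorem hypMap_mk (p : MvPolynomial (Fin n) k) :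
    hypMap k K n (Ideal.Quotient.mk _ p) = Ideal.Quotient.mk _ (MvPolynomial.map (algebraMap k K) p) := rfl

theorem hypMap_sum : hypMap k K n (Ideal.Quotient.mk _ (∑ i, MvPolynomial.X i)) =
    Ideal.Quotient.mk _ (∑ i, MvPolynomial.X i) := by
  rw [hypMap_mk, map_sum]
  simp only [MvPolynomial.map_X]

theorem hypMap_comp : (hypMap k K n).comp (algebraMap k (HypAlg k n)) =
    (algebraMap K (HypAlg K n)).comp (algebraMap k K) := by
  ext x
  change Ideal.Quotient.mk _ (MvPolynomial.map (algebraMap k K) (MvPolynomial.C x)) =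
    Ideal.Quotient.mk _ (MvPolynomial.C (algebraMap k K x))
  rw [MvPolynomial.map_C]


/-- The base change of the hypersurface. -/
theorem isPullback_hyp : IsPullback (Spec.map (CommRingCat.ofHom (hypMap k K n)))
    (Spec.map (CommRingCat.ofHom (algebraMap K (HypAlg K n))))
    (Spec.map (CommRingCat.ofHom (algebraMap k (HypAlg k n)))) (FinFr.specι k K) := by
  have h1 : IsPullback (Spec.map (CommRingCat.ofHom (hypMap k K n)))
      (Spec.map (CommRingCat.ofHom (Ideal.Quotient.mk
        (Ideal.span {∏ i : Fin n, (MvPolynomial.X i : MvPolynomial (Fin n) K)}))))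
      (Spec.map (CommRingCat.ofHom (Ideal.Quotient.mk
        (Ideal.span {∏ i : Fin n, (MvPolynomial.X i : MvPolynomial (Fin n) k)}))))
      (Spec.map (CommRingCat.ofHom (MvPolynomial.map (σ := Fin n) (algebraMap k K)))) :=
    (isPullback_SpecMap_of_isPushout _ _ _ _ (isPushout_quot _ _ _ (hyp_le k K n) (le_hyp k K n))).flip
  have h2 := h1.paste_vert (Groth.Agent.Sga4h.H582.ASSec.isPullback_mv (k := k) (K := K) n)
  rw [← Spec.map_comp, ← Spec.map_comp] at h2
  exact h2

end

end Groth.Agent.Sga4h.H599.HypBC
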