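import Groth.Agent.Sga4h.H599.Torus
import Groth.Agent.Sga4h.H599.HypBC
import Groth.Agent.Sga4h.H931.ConstOn
import Groth.Agent.Sga4h.H582.ASCov

/-!
# The hypersurface `x_1 ⋯ x_n = 0` over a finite field

`L` on `A^n_k` with `toMod L ≅ F_θ(x_1 + ⋯ + x_n, 1)`, `L₀` its restriction to `x_1 ⋯ x_n = 0`.
* `card_H` : orders of the groups `H^i(P₀ ⊗ K, j₀_! L₀)`;
* `frobC_eq_id` : the geometric Frobenius on `H^(n-1)` is the identity, from the trace formula.
-/

set_option autoImplicit false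
universe u

open CategoryTheory CategoryTheory.Limits AlgebraicGeometry Opposite

namespace Groth.Agent.Sga4h.H599.Main

open Groth.Agent.Sga4h.H299.LamMod Groth.Agent.Sga4h.H299.HcK
open Groth.Agent.Sga4h.H918.Ask
open Groth.Agent.Sga4h.H599.Sh Groth.Agent.Sga4h.H599.Geo Groth.Agent.Sga4h.H599.Conc
open Groth.Agent.Sga4h.H599.TorAlg Groth.Agent.Sga4h.H599.HypPts Groth.Agent.Sga4h.H599.Torus
open Groth.Agent.Sga4h.H599.HypBC

variable {k K : Type u} [Field k] [Fintype k] [Field K] [Algebra k K] [IsSepClosed K]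
  {Λ : Type} [Field Λ] [Finite Λ]

theorem ringChar_pos (Λ : Type) [Field Λ] [Finite Λ] : 0 < ringChar Λ :=
  Nat.pos_of_ne_zero (CharP.char_ne_zero_of_finite Λ (ringChar Λ))

theorem ringChar_cast (Λ : Type) [Field Λ] : ((ringChar Λ : ℕ) : Λ) = 0 := ringChar.Nat.cast_ringChar

theorem ringChar_cast' (Λ : Type) [Field Λ] : ((ringChar Λ : ℕ) : UL.{u} Λ) = 0 :=
  ULift.down_injective (ringChar_cast Λ)

theorem card_UL (Λ : Type) : Nat.card (UL.{u} Λ) = Nat.card Λ := Nat.card_congr Equiv.ulift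

/-- The morphism from the hypersurface to the affine space. -/
noncomputable abbrev inc (k : Type u) [Field k] (n : ℕ) :
    Spec (CommRingCat.of (HypAlg k n)) ⟶ Spec (CommRingCat.of (MvPolynomial (Fin n) k)) :=
  Spec.map (CommRingCat.ofHom (Ideal.Quotient.mk
    (Ideal.span {∏ i : Fin n, (MvPolynomial.X i : MvPolynomial (Fin n) k)})))

variable (θ : GG k →* (UL.{u} Λ)ˣ) {n : ℕ}

omit [IsSepClosed K] [Finite Λ] in
/-- The restriction of the sheaf to the hypersurface over `K`. -/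
theorem nonempty_pull {L : EtLam.Sheaf Λ (Spec (CommRingCat.of (MvPolynomial (Fin n) k)))}
    (e : Nonempty (toMod L ≅ sh (algebraMap k (MvPolynomial (Fin n) k)) θ (∑ i, MvPolynomial.X i))) :
    Nonempty ((EtModW.pull (UL.{u} Λ) (Spec.map (CommRingCat.ofHom (hypMap k K n)))).obj
      (toMod (EtLam.pullback (inc k n) L)) ≅
        sA (algebraMap k K) θ (HypAlg K n) (Ideal.Quotient.mk _ (∑ i, MvPolynomial.X i))) := by
  obtain ⟨e⟩ := e
  obtain ⟨e1⟩ := sh_pull' (Λ := UL.{u} Λ) (φ := Ideal.Quotient.mk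
    (Ideal.span {∏ i : Fin n, (MvPolynomial.X i : MvPolynomial (Fin n) k)}))
    (ρ := algebraMap k (MvPolynomial (Fin n) k)) (ρ' := algebraMap k (HypAlg k n)) rfl θ
    (f := ∑ i, MvPolynomial.X i) rfl
  obtain ⟨e2⟩ := sh_pull' (Λ := UL.{u} Λ) (φ := hypMap k K n) (ρ := algebraMap k (HypAlg k n))
    (ρ' := (algebraMap K (HypAlg K n)).comp (algebraMap k K)) (hypMap_comp k K n) θ (hypMap_sum k K n)
  exact ⟨(EtModW.pull (UL.{u} Λ) (Spec.map (CommRingCat.ofHom (hypMap k K n)))).mapIso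
    ((toModPull (inc k n) L).symm ≪≫ (EtModW.pull (UL.{u} Λ) (inc k n)).mapIso e ≪≫ e1) ≪≫ e2⟩

/-- **Orders of the cohomology groups of the hypersurface.** -/
theorem card_H (hθ : ∀ d : kˣ, θ (1, d) = 1)
    (hX : ∀ q, HC (algebraMap k K) θ (Polynomial K) Polynomial.X q 1)
    {L : EtLam.Sheaf Λ (Spec (CommRingCat.of (MvPolynomial (Fin (n + 1)) k)))}
    (e : Nonempty (toMod L ≅ sh (algebraMap k (MvPolynomial (Fin (n + 1)) k)) θ (∑ i, MvPolynomial.X i)))
    {P₀ : Scheme.{u}} (j₀ : Spec (CommRingCat.of (HypAlg k (n + 1))) ⟶ P₀) [IsOpenImmersion j₀]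
    (b₀ : P₀ ⟶ Spec (CommRingCat.of k)) [IsProper b₀]
    (hj : j₀ ≫ b₀ = Spec.map (CommRingCat.ofHom (algebraMap k (HypAlg k (n + 1))))) (i : ℕ) :
    Nat.card (EtCoh.H (FinFr.ext K b₀) (EtLam.pullback (FinFr.extπ K b₀)
      (FinFr.extZeroLam j₀ (EtLam.pullback (inc k (n + 1)) L))).carrier i) =
        if i = n then Nat.card Λ else 1 := by
  have q0 : QuasiCompact j₀ := quasiCompact_affine j₀ b₀
  obtain ⟨P, l, p, _, _, _, w⟩ := exists_comp (K := K) (HypAlg K (n + 1))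
  obtain ⟨e1⟩ := nonempty_hcK' (K := K) (ringChar_pos Λ) (ringChar_cast Λ) j₀ hj (isPullback_hyp k K (n + 1)) l p w
    (EtLam.pullback (inc k (n + 1)) L) i
  obtain ⟨e2⟩ := nonempty_pull (K := K) θ e
  obtain ⟨e3⟩ := hc_congr l e2 i
  rw [Nat.card_congr (e1.trans e3).toEquiv, ← card_UL.{u} Λ]
  exact HC.hyp (ringChar_pos Λ) (ringChar_cast' Λ) hθ hX n i P l p inferInstance inferInstance w

omit [Fintype k] [IsSepClosed K] θ in
theorem finrank_of_card {V : Type*} [AddCommGroup V] [Module Λ V] (h : Nat.card V = Nat.card Λ) :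
    Module.finrank Λ V = 1 := by
  have h0 : Nat.card V ≠ 0 := by
    rw [h]
    exact Nat.card_pos.ne'
  have hV : Finite V := Nat.finite_of_card_ne_zero h0
  have h1 : Nat.card V = Nat.card Λ ^ Module.finrank Λ V := Module.natCard_eq_pow_finrank
  rw [h] at h1
  have h2 : Nat.card Λ ^ 1 = Nat.card Λ ^ Module.finrank Λ V := by rw [pow_one, ← h1]
  exact (Nat.pow_right_injective Finite.one_lt_card h2).symm

omit [Finite Λ] in
/-- The restriction of the Artin–Schreier sheaf is constructible. -/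
theorem isConstructible_res (g : MvPolynomial (Fin n) k)
    {L : EtLam.Sheaf Λ (Spec (CommRingCat.of (MvPolynomial (Fin n) k)))}
    (h : LangSh.IsConstOn (LangSh.cover (MvPolynomial (Fin n) k)
      (LangSh.ASAlg (MvPolynomial (Fin n) k) (Fintype.card k) g)) L) :
    EtLam.IsConstructible (EtLam.pullback (inc k n) L) := by
  have hq : 2 ≤ Fintype.card k := Fintype.one_lt_card
  have hqR : ((Fintype.card k : ℕ) : MvPolynomial (Fin n) k) = 0 := by
    rw [← map_natCast (algebraMap k (MvPolynomial (Fin n) k)), FiniteField.cast_card_eq_zero, map_zero]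
  have i1 : Etale (Groth.Agent.Sga4h.H582.ASCov.cov (Fintype.card k) g) :=
    Groth.Agent.Sga4h.H582.ASCov.etale_cov _ g hq hqR
  have i2 : Surjective (Groth.Agent.Sga4h.H582.ASCov.cov (Fintype.card k) g) :=
    Groth.Agent.Sga4h.H582.ASCov.surjective_cov _ g hq
  let π := Groth.Agent.Sga4h.H582.ASCov.cov (Fintype.card k) g
  exact Groth.Agent.Sga4h.H931.ConstOn.isConstructible_of_isConstOn (pullback.snd π (inc k n)) _
    (Groth.Agent.Sga4h.H931.ConstOn.isConstOn_pullback π (inc k n) (pullback.snd π (inc k n))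
      (pullback.fst π (inc k n)) pullback.condition L h)

/-- **The geometric Frobenius of the hypersurface `x_1 ⋯ x_n = 0`.** -/
theorem frobC_eq_id [Algebra.IsAlgebraic k K] [Fact FinFr.PullExact.{u}] (ψ : AddChar k Λ) (hψ : ψ ≠ 1)
    (hn : 1 ≤ n) (hθ : ∀ d : kˣ, θ (1, d) = 1)
    (hX : ∀ q, HC (algebraMap k K) θ (Polynomial K) Polynomial.X q 1)
    (L : EtLam.Sheaf Λ (Spec (CommRingCat.of (MvPolynomial (Fin n) k))))
    (hL : LangSh.IsASSheaf K ψ (∑ i : Fin n, MvPolynomial.X i : MvPolynomial (Fin n) k) L)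
    (e : Nonempty (toMod L ≅ sh (algebraMap k (MvPolynomial (Fin n) k)) θ (∑ i, MvPolynomial.X i)))
    {P₀ : Scheme.{u}} (j₀ : Spec (CommRingCat.of (HypAlg k n)) ⟶ P₀) [IsOpenImmersion j₀]
    (b₀ : P₀ ⟶ Spec (CommRingCat.of k)) [IsProper b₀]
    (hj : j₀ ≫ b₀ = Spec.map (CommRingCat.ofHom (algebraMap k (HypAlg k n))))
    (hTF : EtLam.IsConstructible (EtLam.pullback (inc k n) L) →
      ∑ᶠ x : FinFr.RatPt (Spec.map (CommRingCat.ofHom (algebraMap k (HypAlg k n)))),
        FinFr.locTrace (K := K) x.1 (EtLam.pullback (inc k n) L) =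
      ∑ᶠ i : ℕ, (-1 : Λ) ^ i * LinearMap.trace Λ _
        (FinFr.frobC (K := K) j₀ b₀ (EtLam.pullback (inc k n) L) i)) :
    FinFr.frobC (K := K) j₀ b₀ (EtLam.pullback (inc k n) L) (n - 1) = LinearMap.id := by
  obtain ⟨m, rfl⟩ : ∃ m, n = m + 1 := ⟨n - 1, by omega⟩
  have h := card_H (K := K) θ hθ hX e j₀ b₀ hj
  refine frobC_hyp ψ hψ hn L hL.2 j₀ b₀ (hTF (isConstructible_res _ hL.1)) (fun i hi => ?_) ?_
  · have h1 := h i
    rw [if_neg (by omega)] at h1
    exact card_eq_one_iff.1 h1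
  · have h1 := h m
    rw [if_pos rfl] at h1
    exact finrank_of_card h1

end Groth.Agent.Sga4h.H599.Main
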