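import Mathlib.Algebra.MvPolynomial.Equiv
import Mathlib.RingTheory.Localization.Away.Basic
import Mathlib.RingTheory.Localization.Algebra
import Mathlib.Algebra.Polynomial.Div
import Mathlib.RingTheory.Polynomial.Basic
import Mathlib.RingTheory.MvPolynomial.Localization
import Mathlib.RingTheory.FiniteType

/-!
# The coordinate ring of the torus, by induction on the dimension

`Tor K n = K[x_1, …, x_n]_(x_1 ⋯ x_n)`, `Tor K (n + 1) = (Tor K n)[X]_X`.
-/

set_option autoImplicit false

universe u

open Polynomial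

namespace Groth.Agent.Sga4h.H599.TorAlg

/-- The coordinate ring of the torus. -/
abbrev Tor (K : Type u) [CommRing K] (n : ℕ) : Type u :=
  Localization.Away (∏ i : Fin n, (MvPolynomial.X i : MvPolynomial (Fin n) K))

/-- The sum of the coordinates. -/
noncomputable abbrev sg (K : Type u) [CommRing K] (n : ℕ) : Tor K n :=
  algebraMap (MvPolynomial (Fin n) K) (Tor K n) (∑ i : Fin n, MvPolynomial.X i)

theorem prod_succ (K : Type u) [CommRing K] (n : ℕ) :
    MvPolynomial.finSuccEquiv K n (∏ i : Fin (n + 1), MvPolynomial.X i) =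
      C (∏ i : Fin n, (MvPolynomial.X i : MvPolynomial (Fin n) K)) * X := by
  rw [Fin.prod_univ_succ, map_mul, MvPolynomial.finSuccEquiv_X_zero, map_prod, map_prod, mul_comm]
  simp only [MvPolynomial.finSuccEquiv_X_succ]

theorem sum_succ (K : Type u) [CommRing K] (n : ℕ) :
    MvPolynomial.finSuccEquiv K n (∑ i : Fin (n + 1), MvPolynomial.X i) =
      C (∑ i : Fin n, (MvPolynomial.X i : MvPolynomial (Fin n) K)) + X := by
  rw [Fin.sum_univ_succ, map_add, MvPolynomial.finSuccEquiv_X_zero, map_sum, map_sum, add_comm]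
  simp only [MvPolynomial.finSuccEquiv_X_succ]

section

attribute [local instance] Polynomial.algebra Polynomial.isLocalization

variable (K : Type u) [CommRing K] (n : ℕ)

theorem isLocalization_C {R T : Type u} [CommRing R] [CommRing T] [Algebra R T] (f : R)
    [IsLocalization.Away f T] : IsLocalization.Away (C f : R[X]) T[X] := by
  have h : IsLocalization ((Submonoid.powers f).map (C : R →+* R[X])) T[X] := inferInstance
  rw [Submonoid.map_powers] at h
  exact h

theorem algebraMap_poly {R T : Type u} [CommRing R] [CommRing T] [Algebra R T] (p : R[X]) :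
    algebraMap R[X] T[X] p = p.map (algebraMap R T) := rfl

/-- `(Tor K (n + 1))` as a localization of `(Tor K n)[X]` -/
theorem exists_torEquiv (K : Type u) [CommRing K] (n : ℕ) :
    ∃ e : Localization.Away (X : (Tor K n)[X]) ≃+* Tor K (n + 1),
      (∀ x : K, e (algebraMap K _ x) = algebraMap K _ x) ∧
        e (algebraMap (Tor K n)[X] _ (C (sg K n) + X)) = sg K (n + 1) := by
  let f : MvPolynomial (Fin n) K := ∏ i : Fin n, MvPolynomial.X i
  let R : Type u := MvPolynomial (Fin n) K
  have h1 : IsLocalization.Away (C f : R[X]) (Tor K n)[X] := isLocalization_C f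
  let A' : Type u := Localization.Away (X : (Tor K n)[X])
  have hX : (algebraMap R[X] (Tor K n)[X] X) = X := Polynomial.map_X _
  have h2 : IsLocalization.Away (algebraMap R[X] (Tor K n)[X] X) A' := by
    rw [hX]
    infer_instance
  have h0 : IsScalarTower R[X] (Tor K n)[X] A' := inferInstance
  have h3 : IsLocalization.Away (C f * X : R[X]) A' :=
    IsLocalization.Away.mul' (Tor K n)[X] A' (C f) X
  have hM : Submonoid.map (MvPolynomial.finSuccEquiv K n).toRingEquiv.toMonoidHom
      (Submonoid.powers (∏ i : Fin (n + 1), (MvPolynomial.X i : MvPolynomial (Fin (n + 1)) K))) =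
      Submonoid.powers (C f * X : R[X]) := by
    rw [Submonoid.map_powers]
    exact congrArg _ (prod_succ K n)
  let e : Tor K (n + 1) ≃+* A' :=
    IsLocalization.ringEquivOfRingEquiv (M := Submonoid.powers (∏ i : Fin (n + 1), (MvPolynomial.X i :
      MvPolynomial (Fin (n + 1)) K))) (T := Submonoid.powers (C f * X : R[X])) (Tor K (n + 1)) A'
      (MvPolynomial.finSuccEquiv K n).toRingEquiv hM
  have he : ∀ p : MvPolynomial (Fin (n + 1)) K, e (algebraMap _ _ p) =
      algebraMap (Tor K n)[X] A' ((MvPolynomial.finSuccEquiv K n p).map (algebraMap R (Tor K n))) := fun p =>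
    IsLocalization.ringEquivOfRingEquiv_eq (Q := A') hM p
  refine ⟨e.symm, fun x => ?_, ?_⟩
  · rw [RingEquiv.symm_apply_eq, IsScalarTower.algebraMap_apply K (MvPolynomial (Fin (n + 1)) K) (Tor K (n + 1)),
      he, MvPolynomial.algebraMap_eq]
    have h4 : MvPolynomial.finSuccEquiv K n (MvPolynomial.C x) = C (MvPolynomial.C x) := by
      simpa using (MvPolynomial.finSuccEquiv K n).commutes x
    rw [h4, Polynomial.map_C, IsScalarTower.algebraMap_apply K (Tor K n)[X] A']
    rfl
  · rw [RingEquiv.symm_apply_eq, he, sum_succ, Polynomial.map_add, Polynomial.map_C, Polynomial.map_X]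

end

/-- `Tor K 0 = K` -/
theorem exists_torZero (K : Type u) [CommRing K] :
    ∃ e : K ≃+* Tor K 0, (∀ x : K, e (algebraMap K K x) = algebraMap K _ x) ∧ e 0 = sg K 0 := by
  have h : IsUnit (∏ i : Fin 0, (MvPolynomial.X i : MvPolynomial (Fin 0) K)) := by simp
  let e : K ≃+* Tor K 0 := (MvPolynomial.isEmptyAlgEquiv K (Fin 0)).symm.toRingEquiv.trans
    (IsLocalization.atUnit (MvPolynomial (Fin 0) K) (Tor K 0) _ h).toRingEquiv
  refine ⟨e, fun x => ?_, ?_⟩
  · have h1 : (MvPolynomial.isEmptyAlgEquiv K (Fin 0)).symm x = MvPolynomial.C x :=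
      (MvPolynomial.isEmptyAlgEquiv K (Fin 0)).symm.commutes x
    change (IsLocalization.atUnit (MvPolynomial (Fin 0) K) (Tor K 0) _ h)
      ((MvPolynomial.isEmptyAlgEquiv K (Fin 0)).symm x) = _
    rw [h1, IsScalarTower.algebraMap_apply K (MvPolynomial (Fin 0) K) (Tor K 0), MvPolynomial.algebraMap_eq]
    exact (IsLocalization.atUnit (MvPolynomial (Fin 0) K) (Tor K 0) _ h).commutes _
  · have h2 : (∑ i : Fin 0, (MvPolynomial.X i : MvPolynomial (Fin 0) K)) = 0 := Fin.sum_univ_zero _
    rw [map_zero, sg, h2, map_zero]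

/-- Evaluation at `0`. -/
noncomputable def ev0 (K : Type u) [CommRing K] (B : Type u) [CommRing B] [Algebra K B] : B[X] →ₐ[K] B :=
  (Polynomial.aeval (R := B) (0 : B)).restrictScalars K

theorem ev0_apply {K : Type u} [CommRing K] {B : Type u} [CommRing B] [Algebra K B] (p : B[X]) :
    ev0 K B p = p.eval 0 := by
  change Polynomial.aeval (R := B) (0 : B) p = _
  rw [Polynomial.coe_aeval_eq_eval]

theorem ev0_surjective (K : Type u) [CommRing K] (B : Type u) [CommRing B] [Algebra K B] :
    Function.Surjective (ev0 K B) := fun b => ⟨C b, by rw [ev0_apply, Polynomial.eval_C]⟩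

theorem ker_ev0 (K : Type u) [CommRing K] (B : Type u) [CommRing B] [Algebra K B] :
    RingHom.ker (ev0 K B) = Ideal.span {X} := by
  ext p
  rw [RingHom.mem_ker, Ideal.mem_span_singleton, Polynomial.X_dvd_iff, ev0_apply,
    Polynomial.coeff_zero_eq_eval_zero]

theorem ev0_add {K : Type u} [CommRing K] {B : Type u} [CommRing B] [Algebra K B] (s : B) :
    ev0 K B (C s + X) = s := by
  rw [ev0_apply, Polynomial.eval_add, Polynomial.eval_C, Polynomial.eval_X, add_zero]

end Groth.Agent.Sga4h.H599.TorAlg
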