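import Groth.Agent.Sga4h.H599.Conc
import Groth.Agent.Sga4h.H599.TorAlg
import Groth.Agent.Sga4h.H599.HypPts

/-!
# Affine space, the torus and the hypersurface `x_1 ⋯ x_n = 0`

Let `H_c^*(A^1, F_θ(x, 1)) = 0`. Then
* `HC.affine` : `H_c^*(A^n, F_θ(x_1 + ⋯ + x_n, 1)) = 0` for `n ≥ 1`;
* `HC.torus` : `H_c^q(G_m^n, F_θ(x_1 + ⋯ + x_n, 1))` is `0` for `q ≠ n` and has `|Λ|` elements for `q = n`;
* `HC.hyp` : `H_c^q({x_1 ⋯ x_n = 0}, F_θ(x_1 + ⋯ + x_n, 1))` is `0` for `q ≠ n - 1` and has `|Λ|` elements for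
  `q = n - 1`, `n ≥ 1`.
-/

set_option autoImplicit false
universe u

open CategoryTheory CategoryTheory.Limits AlgebraicGeometry Opposite Polynomial

namespace Groth.Agent.Sga4h.H599.Torus

open Groth.Agent.Sga4h.H918.Ask
open Groth.Agent.Sga4h.H599.Sh Groth.Agent.Sga4h.H599.Geo Groth.Agent.Sga4h.H599.Conc
open Groth.Agent.Sga4h.H599.TorAlg Groth.Agent.Sga4h.H599.HypPts

variable {k : Type*} [Field k] [Fintype k] {Λ : Type (u + 1)} [CommRing Λ] {K : Type u} [Field K] [IsSepClosed K]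
  {ρ : k →+* K} {θ : GG k →* Λˣ} {m : ℕ} (hm0 : 0 < m) (hm : (m : Λ) = 0) (hθ : ∀ d : kˣ, θ (1, d) = 1)
  (hX : ∀ q, HC ρ θ K[X] X q 1)

include hm0 hm hθ hX

/-- Affine space. -/
theorem HC.affine (n q : ℕ) : HC ρ θ (MvPolynomial (Fin (n + 1)) K) (∑ i, MvPolynomial.X i) q 1 := by
  have h := HC.poly hm0 hm (∑ i, MvPolynomial.X i : MvPolynomial (Fin n) K) hθ hX q
  refine HC.congr hm0 hm (MvPolynomial.finSuccEquiv K n).symm.toRingEquiv
    (fun x => (MvPolynomial.finSuccEquiv K n).symm.commutes x) ?_ h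
  exact (AlgEquiv.symm_apply_eq _).2 (sum_succ K n).symm

/-- The torus. -/
theorem HC.torus (n : ℕ) : ∀ q, HC ρ θ (Tor K n) (sg K n) q (if q = n then Nat.card Λ else 1) := by
  induction n with
  | zero =>
    obtain ⟨e, he, h0⟩ := exists_torZero K
    intro q
    match q with
    | 0 =>
      rw [if_pos rfl]
      exact HC.congr hm0 hm e he h0 (HC.point hm0 hm hθ)
    | q + 1 =>
      rw [if_neg (Nat.succ_ne_zero q)]
      exact HC.congr hm0 hm e he h0 (HC.point_succ hm0 hm hθ q)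
  | succ n ih =>
    obtain ⟨e, he, h0⟩ := exists_torEquiv K n
    have hv : ∀ q, HC ρ θ (Tor K n)[X] (C (sg K n) + X) q 1 := fun q => HC.poly hm0 hm _ hθ hX q
    intro q
    match q with
    | 0 =>
      rw [if_neg (Nat.succ_ne_zero n).symm]
      exact HC.congr hm0 hm e he h0 (HC.open_zero hm0 hm X (ev0 K (Tor K n)) (ev0_surjective K _) (ker_ev0 K _)
        rfl (ev0_add (sg K n)) hv)
    | q + 1 =>
      have h1 : (if q + 1 = n + 1 then Nat.card Λ else 1) = if q = n then Nat.card Λ else 1 := by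
        simp only [Nat.add_right_cancel_iff]
      rw [h1]
      exact HC.congr hm0 hm e he h0 (HC.open_of_closed hm0 hm X (ev0 K (Tor K n)) (ev0_surjective K _) (ker_ev0 K _)
        rfl (ev0_add (sg K n)) hv (ih q))

/-- The hypersurface `x_1 ⋯ x_n = 0`. -/
theorem HC.hyp (n q : ℕ) : HC ρ θ (HypAlg K (n + 1)) (Ideal.Quotient.mk _ (∑ i, MvPolynomial.X i)) q
    (if q = n then Nat.card Λ else 1) := by
  have h := HC.torus hm0 hm hθ hX (n + 1) (q + 1)
  have h1 : (if q + 1 = n + 1 then Nat.card Λ else 1) = if q = n then Nat.card Λ else 1 := by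
    simp only [Nat.add_right_cancel_iff]
  rw [h1] at h
  refine HC.closed_of_open hm0 hm (A := MvPolynomial (Fin (n + 1)) K)
    (∏ i : Fin (n + 1), (MvPolynomial.X i : MvPolynomial (Fin (n + 1)) K))
    (Ideal.Quotient.mkₐ K _) (Ideal.Quotient.mkₐ_surjective K _) (Ideal.Quotient.mkₐ_ker K _) rfl rfl
    (HC.affine hm0 hm hθ hX n) h

end Groth.Agent.Sga4h.H599.Torus
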