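import Groth.Agent.Sga4h.H599.Main

/-!
# The hypersurface `x_1 ⋯ x_n = 0` over `K`, literal form

`parts` : for `a = 0`, `L_a` on `V_a = {x_1 ⋯ x_n = a}` and every compactification `j : V_a → P`, the groups
`H^i(P, j_! L_a)` vanish for `i ≠ n - 1`, and `H^(n-1)(P, j_! L_a)` is one-dimensional.
-/

set_option autoImplicit false
universe u

open CategoryTheory CategoryTheory.Limits AlgebraicGeometry Opposite

namespace Groth.Agent.Sga4h.H599.Zero

open Groth.Agent.Sga4h.H299.LamMod Groth.Agent.Sga4h.H299.HcK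
open Groth.Agent.Sga4h.H918.Ask
open Groth.Agent.Sga4h.H599.Sh Groth.Agent.Sga4h.H599.Geo Groth.Agent.Sga4h.H599.Conc
open Groth.Agent.Sga4h.H599.TorAlg Groth.Agent.Sga4h.H599.HypPts Groth.Agent.Sga4h.H599.Torus
open Groth.Agent.Sga4h.H599.Main

variable {k K : Type u} [Field k] [Fintype k] [Field K] [Algebra k K]
  {Λ : Type} [Field Λ]

/-- The coordinate ring of `x_1 ⋯ x_n = a`. -/
abbrev VAlg (K : Type u) [CommRing K] (n : ℕ) (a : K) : Type u :=
  MvPolynomial (Fin n) K ⧸ Ideal.span {(∏ i : Fin n, (MvPolynomial.X i : MvPolynomial (Fin n) K)) - MvPolynomial.C a}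

/-- The morphism `V_a → A^n_K → A^n_k`. -/
noncomputable abbrev incl (k : Type u) {K : Type u} [Field k] [Field K] [Algebra k K] (n : ℕ) (a : K) :
    Spec (CommRingCat.of (VAlg K n a)) ⟶ Spec (CommRingCat.of (MvPolynomial (Fin n) k)) :=
  Spec.map (CommRingCat.ofHom (Ideal.Quotient.mk
    (Ideal.span {(∏ i : Fin n, (MvPolynomial.X i : MvPolynomial (Fin n) K)) - MvPolynomial.C a}))) ≫
    Spec.map (CommRingCat.ofHom (MvPolynomial.map (algebraMap k K)))

variable (θ : GG k →* (UL.{u} Λ)ˣ) {n : ℕ}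

/-- The sheaf on `V_a`. -/
theorem nonempty_incl {L : EtLam.Sheaf Λ (Spec (CommRingCat.of (MvPolynomial (Fin n) k)))}
    (e : Nonempty (toMod L ≅ sh (algebraMap k (MvPolynomial (Fin n) k)) θ (∑ i, MvPolynomial.X i))) (a : K) :
    Nonempty (toMod (EtLam.pullback (incl k n a) L) ≅
      sA (algebraMap k K) θ (VAlg K n a) (Ideal.Quotient.mk _ (∑ i, MvPolynomial.X i))) := by
  obtain ⟨e⟩ := e
  let φ : MvPolynomial (Fin n) k →+* VAlg K n a :=
    (Ideal.Quotient.mk (Ideal.span {(∏ i : Fin n, (MvPolynomial.X i : MvPolynomial (Fin n) K)) -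
      MvPolynomial.C a})).comp (MvPolynomial.map (algebraMap k K))
  have h1 : incl k n a = Spec.map (CommRingCat.ofHom φ) := (Spec.map_comp _ _).symm
  obtain ⟨e1⟩ := sh_pull' (Λ := UL.{u} Λ) (φ := φ) (ρ := algebraMap k (MvPolynomial (Fin n) k))
    (ρ' := (algebraMap K (VAlg K n a)).comp (algebraMap k K))
    (RingHom.ext fun x => by
      change Ideal.Quotient.mk _ (MvPolynomial.map (algebraMap k K) (MvPolynomial.C x)) =
        Ideal.Quotient.mk _ (MvPolynomial.C (algebraMap k K x))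
      rw [MvPolynomial.map_C]) θ
    (f := ∑ i, MvPolynomial.X i) (f' := Ideal.Quotient.mk _ (∑ i, MvPolynomial.X i))
    (by
      change Ideal.Quotient.mk _ (MvPolynomial.map (algebraMap k K) (∑ i, MvPolynomial.X i)) = _
      rw [map_sum]
      simp only [MvPolynomial.map_X])
  rw [← h1] at e1
  exact ⟨(toModPull (incl k n a) L).symm ≪≫ (EtModW.pull (UL.{u} Λ) (incl k n a)).mapIso e ≪≫ e1⟩

variable [IsSepClosed K] [Finite Λ]

/-- **Orders of the cohomology groups of `V_0`.** -/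
theorem card_H (hθ : ∀ d : kˣ, θ (1, d) = 1)
    (hX : ∀ q, HC (algebraMap k K) θ (Polynomial K) Polynomial.X q 1)
    {L : EtLam.Sheaf Λ (Spec (CommRingCat.of (MvPolynomial (Fin (n + 1)) k)))}
    (e : Nonempty (toMod L ≅ sh (algebraMap k (MvPolynomial (Fin (n + 1)) k)) θ (∑ i, MvPolynomial.X i)))
    {a : K} (ha : a = 0) {P : Scheme.{u}} (j : Spec (CommRingCat.of (VAlg K (n + 1) a)) ⟶ P) [IsOpenImmersion j]
    (b : P ⟶ Spec (CommRingCat.of K)) [IsProper b]
    (hj : j ≫ b = Spec.map (CommRingCat.ofHom (algebraMap K (VAlg K (n + 1) a)))) (i : ℕ) :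
    Nat.card (EtCoh.H P (FinFr.extZeroLam j (EtLam.pullback (incl k (n + 1) a) L)).carrier i) =
        if i = n then Nat.card Λ else 1 := by
  obtain ⟨e2⟩ := nonempty_incl (K := K) θ e a
  obtain ⟨e3⟩ := hc_congr j e2 i
  have h1 : Nat.card (EtCoh.H P (FinFr.extZeroLam j (EtLam.pullback (incl k (n + 1) a) L)).carrier i) =
      Nat.card (HcG j (sA (algebraMap k K) θ (VAlg K (n + 1) a) (Ideal.Quotient.mk _ (∑ i, MvPolynomial.X i))) i) :=
    Nat.card_congr e3.toEquiv
  rw [h1, ← card_UL.{u} Λ]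
  have hI : Ideal.span {∏ i : Fin (n + 1), (MvPolynomial.X i : MvPolynomial (Fin (n + 1)) K)} =
      Ideal.span {(∏ i : Fin (n + 1), (MvPolynomial.X i : MvPolynomial (Fin (n + 1)) K)) - MvPolynomial.C a} := by
    rw [ha, MvPolynomial.C_0, sub_zero]
  have h2 : HC (algebraMap k K) θ (VAlg K (n + 1) a) (Ideal.Quotient.mk _ (∑ i, MvPolynomial.X i)) i
      (if i = n then Nat.card (UL.{u} Λ) else 1) :=
    HC.congr (ringChar_pos Λ) (ringChar_cast' Λ) (Ideal.quotEquivOfEq hI) (fun x => rfl) rfl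
      (HC.hyp (ringChar_pos Λ) (ringChar_cast' Λ) hθ hX n i)
  exact h2 P j b inferInstance inferInstance hj

/-- **Parts (i) and (iv) for `a = 0`.** -/
theorem parts (hθ : ∀ d : kˣ, θ (1, d) = 1)
    (hX : ∀ q, HC (algebraMap k K) θ (Polynomial K) Polynomial.X q 1) (hn : 1 ≤ n)
    (L : EtLam.Sheaf Λ (Spec (CommRingCat.of (MvPolynomial (Fin n) k))))
    (e : Nonempty (toMod L ≅ sh (algebraMap k (MvPolynomial (Fin n) k)) θ (∑ i, MvPolynomial.X i)))
    {a : K} (ha : a = 0) {P : Scheme.{u}}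
    (j : Spec (CommRingCat.of (MvPolynomial (Fin n) K ⧸
      Ideal.span {(∏ i : Fin n, MvPolynomial.X i) - MvPolynomial.C a})) ⟶ P) [IsOpenImmersion j]
    (b : P ⟶ Spec (CommRingCat.of K)) [IsProper b]
    (hj : j ≫ b = Spec.map (CommRingCat.ofHom (algebraMap K (MvPolynomial (Fin n) K ⧸
      Ideal.span {(∏ i : Fin n, MvPolynomial.X i) - MvPolynomial.C a})))) :
    (∀ i : ℕ, i ≠ n - 1 → Subsingleton (EtCoh.H P (FinFr.extZeroLam j (EtLam.pullback
        (Spec.map (CommRingCat.ofHom (Ideal.Quotient.mk (Ideal.span {(∏ i : Fin n, MvPolynomial.X i) - MvPolynomial.C a}))) ≫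
          Spec.map (CommRingCat.ofHom (MvPolynomial.map (algebraMap k K)))) L)).carrier i)) ∧
    Module.finrank Λ (EtCoh.H P (FinFr.extZeroLam j (EtLam.pullback
        (Spec.map (CommRingCat.ofHom (Ideal.Quotient.mk (Ideal.span {(∏ i : Fin n, MvPolynomial.X i) - MvPolynomial.C a}))) ≫
          Spec.map (CommRingCat.ofHom (MvPolynomial.map (algebraMap k K)))) L)).carrier (n - 1)) = 1 := by
  obtain ⟨m, rfl⟩ : ∃ m, n = m + 1 := ⟨n - 1, by omega⟩
  have h := card_H (K := K) θ hθ hX e ha j b hj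
  refine ⟨fun i hi => ?_, ?_⟩
  · have h1 := h i
    rw [if_neg (by omega)] at h1
    exact card_eq_one_iff.1 h1
  · have h1 := h m
    rw [if_pos rfl] at h1
    exact finrank_of_card h1

end Groth.Agent.Sga4h.H599.Zero
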